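import Mathlib.AlgebraicGeometry.Morphisms.FormallyUnramified
import Mathlib.RingTheory.Unramified.LocalRing
import Mathlib.RingTheory.Unramified.Locus
import Mathlib.AlgebraicGeometry.Morphisms.FiniteType
import Mathlib.AlgebraicGeometry.ResidueField
import Mathlib.AlgebraicGeometry.Stalk

/-!
# Unramified at a point

For a morphism locally of finite type: formally unramified near `x` iff the stalk map at `x` is
formally unramified iff `m_y O_x = m_x` and `κ(x)/κ(y)` is separable.
-/

universe u

open CategoryTheory AlgebraicGeometry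

namespace Groth.Agent.UnramPoint

variable {X Y : Scheme.{u}} (f : X ⟶ Y)

theorem stalkMap_formallyUnramified (U : X.Opens) (x : X) (hx : x ∈ U)
    [FormallyUnramified (U.ι ≫ f)] : (f.stalkMap x).hom.FormallyUnramified := by
  obtain ⟨x', rfl⟩ : x ∈ Set.range U.ι := by rw [Scheme.Opens.range_ι]; exact hx
  have h3 := FormallyUnramified.stalkMap (U.ι ≫ f) x'
  rw [Scheme.Hom.stalkMap_comp] at h3
  exact (RingHom.FormallyUnramified.respectsIso.cancel_right_isIso _ _).mp h3

theorem exists_nhd_of_stalkMap [LocallyOfFiniteType f] (x : X)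
    (hu : (f.stalkMap x).hom.FormallyUnramified) :
    ∃ U : X.Opens, x ∈ U ∧ FormallyUnramified (U.ι ≫ f) := by
  obtain ⟨V, hV, hxV, -⟩ := exists_isAffineOpen_mem_and_subset (X := Y) (x := f x) (U := ⊤) trivial
  obtain ⟨W, hW, hxW, eW⟩ := exists_isAffineOpen_mem_and_subset (X := X) (x := x) (U := f ⁻¹ᵁ V) hxV
  let φ : Γ(Y, V) ⟶ Γ(X, W) := f.appLE V W eW
  let : Algebra Γ(Y, V) Γ(X, W) := φ.hom.toAlgebra
  have : Algebra.FiniteType Γ(Y, V) Γ(X, W) := RingHom.finiteType_algebraMap.1
    (HasRingHomProperty.appLE @LocallyOfFiniteType f ‹_› ⟨V, hV⟩ ⟨W, hW⟩ eW)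
  let := TopCat.Presheaf.algebra_section_stalk X.presheaf (⟨x, hxW⟩ : W)
  have hlx := hW.isLocalization_stalk ⟨x, hxW⟩
  let q := (hW.primeIdealOf ⟨x, hxW⟩).asIdeal
  let : Algebra Γ(Y, V) (X.presheaf.stalk x) :=
    ((algebraMap Γ(X, W) (X.presheaf.stalk x)).comp (algebraMap Γ(Y, V) Γ(X, W))).toAlgebra
  have : IsScalarTower Γ(Y, V) Γ(X, W) (X.presheaf.stalk x) := .of_algebraMap_eq fun _ => rfl
  let := TopCat.Presheaf.algebra_section_stalk Y.presheaf (⟨f x, hxV⟩ : V)
  have hly := hV.isLocalization_stalk ⟨f x, hxV⟩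
  let : Algebra (Y.presheaf.stalk (f x)) (X.presheaf.stalk x) := (f.stalkMap x).hom.toAlgebra
  have : IsScalarTower Γ(Y, V) (Y.presheaf.stalk (f x)) (X.presheaf.stalk x) :=
    .of_algebraMap_eq' <| by
      have h : φ ≫ X.presheaf.germ W x hxW = Y.presheaf.germ V (f x) hxV ≫ f.stalkMap x := by
        rw [Scheme.Hom.germ_stalkMap]
        simp [φ, Scheme.Hom.appLE]
      exact congrArg CommRingCat.Hom.hom h
  have : Algebra.FormallyUnramified (Y.presheaf.stalk (f x)) (X.presheaf.stalk x) :=
    RingHom.formallyUnramified_algebraMap.1 hu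
  have : Algebra.FormallyUnramified Γ(Y, V) (Y.presheaf.stalk (f x)) :=
    Algebra.FormallyUnramified.of_isLocalization (hV.primeIdealOf ⟨f x, hxV⟩).asIdeal.primeCompl
  have : Algebra.FormallyUnramified Γ(Y, V) (X.presheaf.stalk x) :=
    Algebra.FormallyUnramified.comp _ (Y.presheaf.stalk (f x)) _
  haveI : Algebra.IsUnramifiedAt Γ(Y, V) q :=
    Algebra.FormallyUnramified.of_equiv
      ((IsLocalization.algEquiv q.primeCompl (X.presheaf.stalk x) (Localization.AtPrime q)).restrictScalars
        Γ(Y, V))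
  obtain ⟨g, hg, hfu⟩ := Algebra.exists_formallyUnramified_of_isUnramifiedAt (R := Γ(Y, V)) q
  refine ⟨X.basicOpen g, ?_, ?_⟩
  · rw [← hW.fromSpec_image_basicOpen g]
    exact ⟨hW.primeIdealOf ⟨x, hxW⟩, hg, hW.fromSpec_primeIdealOf _⟩
  let D := Localization.Away g
  have h1 : FormallyUnramified (Spec.map (CommRingCat.ofHom (algebraMap Γ(Y, V) D))) :=
    (HasRingHomProperty.Spec_iff (P := @FormallyUnramified)).2
      (RingHom.formallyUnramified_algebraMap.2 hfu)
  let j : Spec (CommRingCat.of D) ⟶ X :=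
    Spec.map (CommRingCat.ofHom (algebraMap Γ(X, W) D)) ≫ hW.fromSpec
  have hj : Set.range j = Set.range (X.basicOpen g).ι := by
    rw [Scheme.Opens.range_ι, Scheme.Hom.comp_base, TopCat.coe_comp, Set.range_comp]
    change hW.fromSpec '' Set.range (PrimeSpectrum.comap _) = _
    exact (congrArg (Set.image hW.fromSpec) (PrimeSpectrum.localization_away_comap_range D g)).trans
      (congrArg (fun U : X.Opens => (U : Set X)) (hW.fromSpec_image_basicOpen g))
  have : IsOpenImmersion j := inferInstance
  rw [← IsOpenImmersion.isoOfRangeEq_inv_fac j (X.basicOpen g).ι hj, Category.assoc]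
  have h2 : j ≫ f = Spec.map (CommRingCat.ofHom (algebraMap Γ(Y, V) D)) ≫ hV.fromSpec := by
    rw [Category.assoc, ← hV.SpecMap_appLE_fromSpec f hW eW, ← Spec.map_comp_assoc]
    rfl
  rw [h2]
  refine MorphismProperty.comp_mem @FormallyUnramified _ _ inferInstance ?_
  exact MorphismProperty.comp_mem @FormallyUnramified _ _ h1 inferInstance

theorem exists_nhd_iff_stalkMap [LocallyOfFiniteType f] (x : X) :
    (∃ U : X.Opens, x ∈ U ∧ FormallyUnramified (U.ι ≫ f)) ↔
      (f.stalkMap x).hom.FormallyUnramified :=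
  ⟨fun ⟨U, hx, _⟩ => stalkMap_formallyUnramified f U x hx, exists_nhd_of_stalkMap f x⟩

theorem stalkMap_formallyUnramified_iff [LocallyOfFiniteType f] (x : X) :
    (f.stalkMap x).hom.FormallyUnramified ↔
      (IsLocalRing.maximalIdeal (Y.presheaf.stalk (f x))).map (f.stalkMap x).hom =
          IsLocalRing.maximalIdeal (X.presheaf.stalk x) ∧
        letI := (f.residueFieldMap x).hom.toAlgebra
        Module.Finite (Y.residueField (f x)) (X.residueField x) ∧
          Algebra.IsSeparable (Y.residueField (f x)) (X.residueField x) := by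
  algebraize [(f.stalkMap x).hom]
  letI := (f.residueFieldMap x).hom.toAlgebra
  haveI hloc : IsLocalHom (algebraMap (Y.presheaf.stalk (f x)) (X.presheaf.stalk x)) :=
    inferInstanceAs <| IsLocalHom (f.stalkMap x).hom
  haveI : Algebra.EssFiniteType (Y.presheaf.stalk (f x)) (X.presheaf.stalk x) := by
    rw [← RingHom.essFiniteType_algebraMap, RingHom.algebraMap_toAlgebra]
    exact LocallyOfFiniteType.stalkMap f x
  have halg : (inferInstance : Algebra (IsLocalRing.ResidueField (Y.presheaf.stalk (f x)))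
      (IsLocalRing.ResidueField (X.presheaf.stalk x))) = (f.residueFieldMap x).hom.toAlgebra := by
    refine Algebra.algebra_ext _ _ fun z => ?_
    obtain ⟨z, rfl⟩ := IsLocalRing.residue_surjective z
    rfl
  constructor
  · intro h
    haveI : Algebra.FormallyUnramified (Y.presheaf.stalk (f x)) (X.presheaf.stalk x) :=
      RingHom.formallyUnramified_algebraMap.1 h
    refine ⟨Algebra.FormallyUnramified.map_maximalIdeal, ?_⟩
    obtain ⟨hm, hs⟩ : Module.Finite (IsLocalRing.ResidueField (Y.presheaf.stalk (f x)))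
        (IsLocalRing.ResidueField (X.presheaf.stalk x)) ∧
      Algebra.IsSeparable (IsLocalRing.ResidueField (Y.presheaf.stalk (f x)))
        (IsLocalRing.ResidueField (X.presheaf.stalk x)) := ⟨inferInstance, inferInstance⟩
    exact ⟨by convert! hm using 1; all_goals exact congrArg (fun a => @Algebra.toModule _ _ _ _ a) halg.symm,
      by convert! hs using 1; all_goals exact halg.symm⟩
  · rintro ⟨hmax, -, hsep⟩
    haveI : Algebra.IsSeparable (IsLocalRing.ResidueField (Y.presheaf.stalk (f x)))
        (IsLocalRing.ResidueField (X.presheaf.stalk x)) := by convert! hsep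
    exact RingHom.formallyUnramified_algebraMap.2 (Algebra.FormallyUnramified.of_map_maximalIdeal hmax)

end Groth.Agent.UnramPoint
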