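import Mathlib.RingTheory.Unramified.LocalStructure
import Mathlib.RingTheory.EssentialFiniteness
import Mathlib.RingTheory.Unramified.LocalRing
import Mathlib.RingTheory.FinitePresentation
import Groth.Agent.FieldPow.Local

/-!
# Essentially finite type unramified local algebras are quotients of localised standard étale ones
-/

universe u

namespace Groth.Agent.UnramPoint

open IsLocalRing

section

variable {A P B : Type u} [CommRing A] [CommRing P] [CommRing B] [Algebra A P] [Algebra A B]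
  [IsLocalRing B]

theorem exists_localization_lift (φ : P →ₐ[A] B)
    (h : ∀ b : B, ∃ p s, IsUnit (φ s) ∧ b * φ s = φ p) :
    ∃ (𝔮 : Ideal P) (_ : 𝔮.IsPrime) (Φ : Localization.AtPrime 𝔮 →ₐ[A] B),
      Function.Surjective Φ ∧
        ((∀ x, φ x = 0 → ∃ s, IsUnit (φ s) ∧ s * x = 0) → Function.Injective Φ) := by
  let 𝔮 := (maximalIdeal B).comap φ.toRingHom
  have hunit : ∀ s : 𝔮.primeCompl, IsUnit (φ.toRingHom s) := fun s =>
    IsLocalRing.notMem_maximalIdeal.1 s.2
  refine ⟨𝔮, inferInstance, IsLocalization.liftAlgHom (M := 𝔮.primeCompl) (f := φ) hunit, ?_, ?_⟩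
  · intro b
    obtain ⟨p, s, hs, hb⟩ := h b
    have hs' : s ∈ 𝔮.primeCompl := fun hmem => (IsLocalRing.mem_maximalIdeal (φ s)).1 hmem hs
    refine ⟨IsLocalization.mk' _ p (⟨s, hs'⟩ : 𝔮.primeCompl), ?_⟩
    rw [IsLocalization.liftAlgHom_apply, IsLocalization.lift_mk'_spec]
    exact hb.symm.trans (mul_comm _ _)
  · intro hinj
    rw [injective_iff_map_eq_zero]
    intro z hz
    obtain ⟨p, s, rfl⟩ := IsLocalization.exists_mk'_eq 𝔮.primeCompl z
    rw [IsLocalization.liftAlgHom_apply, IsLocalization.lift_mk'_spec, mul_zero] at hz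
    obtain ⟨t, ht, htp⟩ := hinj p hz
    have ht' : t ∈ 𝔮.primeCompl := fun hmem => (IsLocalRing.mem_maximalIdeal (φ t)).1 hmem ht
    exact (IsLocalization.mk'_eq_zero_iff p s).2 ⟨⟨t, ht'⟩, htp⟩

end

variable (A B : Type u) [CommRing A] [CommRing B] [IsLocalRing A] [IsLocalRing B] [Algebra A B]
    [IsLocalHom (algebraMap A B)] [Algebra.EssFiniteType A B] [Algebra.FormallyUnramified A B]

theorem exists_standardEtale_surjective :
    ∃ (P : StandardEtalePair A) (𝔮 : Ideal P.Ring) (_ : 𝔮.IsPrime)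
      (Φ : Localization.AtPrime 𝔮 →ₐ[A] B), Function.Surjective Φ ∧
        ((IsNoetherianRing A ∧ Module.Flat A B) → Function.Injective Φ) := by
  classical
  let B₀ := Algebra.EssFiniteType.subalgebra A B
  let q : Ideal B₀ := (maximalIdeal B).comap (algebraMap B₀ B)
  have hq : q.primeCompl = Algebra.EssFiniteType.submonoid A B := by
    ext z
    exact IsLocalRing.notMem_maximalIdeal
  haveI hlocB : IsLocalization q.primeCompl B := hq ▸ Algebra.EssFiniteType.isLocalization A B
  haveI : Algebra.IsUnramifiedAt A q :=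
    Algebra.FormallyUnramified.of_equiv
      ((IsLocalization.algEquiv q.primeCompl B (Localization.AtPrime q)).restrictScalars A)
  obtain ⟨f, hf, P, ψ, hψ, hbij⟩ : ∃ f ∉ q, ∃ (P : StandardEtalePair A)
      (ψ : P.Ring →ₐ[A] Localization.Away f), Function.Surjective ψ ∧
        ((IsNoetherianRing A ∧ Module.Flat A B) → Function.Injective ψ) := by
    by_cases hA : IsNoetherianRing A ∧ Module.Flat A B
    · haveI := hA.1
      haveI := hA.2
      haveI : Algebra.FinitePresentation A B₀ := Algebra.FinitePresentation.of_finiteType.mp inferInstance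
      haveI : IsLocalization.AtPrime A (maximalIdeal A) :=
        IsLocalization.self fun x hx => IsLocalRing.notMem_maximalIdeal.1 hx
      haveI : q.LiesOver (maximalIdeal A) := ⟨by
        rw [Ideal.under_def, Ideal.comap_comap, ← IsScalarTower.algebraMap_eq]
        exact (IsLocalRing.maximalIdeal_comap (algebraMap A B)).symm⟩
      haveI : Algebra.IsEtaleAt A q :=
        FieldPow.isEtaleAt_of_flat_unramified (R' := A) (S' := B) (maximalIdeal A) q
      obtain ⟨f, hf, h⟩ := Algebra.IsEtaleAt.exists_isStandardEtale (R := A) q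
      let Pr : StandardEtalePresentation A (Localization.Away f) := Nonempty.some inferInstance
      exact ⟨f, hf, Pr.P, Pr.equivRing.symm.toAlgHom, Pr.equivRing.symm.surjective,
        fun _ => Pr.equivRing.symm.injective⟩
    · obtain ⟨f, hf, P, ψ, hψ⟩ :=
        Algebra.IsUnramifiedAt.exists_hasStandardEtaleSurjectionOn (R := A) q
      exact ⟨f, hf, P, ψ, hψ, fun h => absurd h hA⟩
  let ι : Localization.Away f →ₐ[A] B :=
    IsLocalization.liftAlgHom (M := Submonoid.powers f) (f := IsScalarTower.toAlgHom A B₀ B) <| by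
      rintro ⟨_, n, rfl⟩
      show IsUnit (algebraMap B₀ B (f ^ n))
      rw [map_pow]
      exact (IsLocalRing.notMem_maximalIdeal.1 hf).pow n
  have hι : ∀ b, ι (algebraMap B₀ _ b) = algebraMap B₀ B b := fun b => IsLocalization.lift_eq _ _
  obtain ⟨𝔮, hprime, Φ, hsurj, hinj⟩ := exists_localization_lift (ι.comp ψ) fun b => by
    obtain ⟨⟨b₀, s⟩, e⟩ := IsLocalization.surj q.primeCompl b
    obtain ⟨p, hp⟩ := hψ (algebraMap B₀ _ b₀)
    obtain ⟨t, ht⟩ := hψ (algebraMap B₀ _ (s : B₀))
    refine ⟨p, t, ?_, ?_⟩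
    · show IsUnit (ι (ψ t))
      rw [ht, hι]
      exact IsLocalization.map_units B s
    · show b * ι (ψ t) = ι (ψ p)
      rw [ht, hp, hι, hι]
      exact e
  refine ⟨P, 𝔮, hprime, Φ, hsurj, fun hA => hinj fun x hx => ?_⟩
  obtain ⟨⟨b₀, m⟩, e⟩ := IsLocalization.surj (Submonoid.powers f) (ψ x)
  have : algebraMap B₀ B b₀ = 0 := by
    rw [← hι, ← e, map_mul, show ι (ψ x) = 0 from hx, zero_mul]
  obtain ⟨s, hs⟩ := (IsLocalization.map_eq_zero_iff q.primeCompl B b₀).1 this
  obtain ⟨t, ht⟩ := hψ (algebraMap B₀ _ ((s : B₀) * m))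
  refine ⟨t, ?_, hbij hA ?_⟩
  · show IsUnit (ι (ψ t))
    rw [ht, hι, map_mul]
    refine (IsLocalization.map_units B s).mul ?_
    obtain ⟨n, hn⟩ := m.2
    rw [← hn, map_pow]
    exact (IsLocalRing.notMem_maximalIdeal.1 hf).pow n
  · rw [map_mul, map_zero, ht, map_mul, mul_assoc, mul_comm _ (ψ x), e, ← map_mul, hs, map_zero]

end Groth.Agent.UnramPoint
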